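import Cfsg.Agent.H601.C3.DecDefs
import Cfsg.Agent.H375.C3.Wed

/-!
# The commutant of `Nh` is a product of matrix algebras over `K` (helper601, S1920 PSU)
-/

set_option autoImplicit false

open Module

namespace Cfsg.Agent.H601.C3

universe u v

section rep

variable {K : Type u} [Field K] {V : Type v} [AddCommGroup V] [Module K V] {Γ : Type*} [Group Γ]

/-- density: what commutes with the commutant is in the span -/
theorem mem_span_of_central [FiniteDimensional K V] [Fintype Γ] (ρ : Γ →* Module.End K V) (hN : (Nat.card Γ : K) ≠ 0)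
    {T : Module.End K V} (hT : ∀ S : Module.End K V, (∀ g, S * ρ g = ρ g * S) → T * S = S * T) :
    ∃ a : Γ → K, T = ∑ n, a n • ρ n := by
  classical
  have hspan : ∀ a : MonoidAlgebra K Γ, ∃ c : Γ → K, MonoidAlgebra.lift K (Module.End K V) Γ ρ a = ∑ n, c n • ρ n := by
    intro a
    induction a using MonoidAlgebra.induction_on with
    | of g =>
      refine ⟨Pi.single g 1, ?_⟩
      rw [MonoidAlgebra.lift_of, Finset.sum_eq_single g, Pi.single_eq_same, one_smul]
      · intro b _ hb
        rw [Pi.single_eq_of_ne hb, zero_smul]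
      · exact fun h => absurd (Finset.mem_univ g) h
    | add x y hx hy =>
      obtain ⟨a, ha⟩ := hx
      obtain ⟨b, hb⟩ := hy
      exact ⟨a + b, by
        rw [map_add, ha, hb, ← Finset.sum_add_distrib]
        exact Finset.sum_congr rfl fun n _ => (add_smul _ _ _).symm⟩
    | smul c x hx =>
      obtain ⟨a, ha⟩ := hx
      exact ⟨c • a, by
        rw [map_smul, ha, Finset.smul_sum]
        exact Finset.sum_congr rfl fun n _ => (mul_smul _ _ _).symm⟩
  suffices h0 : ∃ a : MonoidAlgebra K Γ, T = MonoidAlgebra.lift K (Module.End K V) Γ ρ a by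
    obtain ⟨a, rfl⟩ := h0
    exact hspan a
  let L : MonoidAlgebra K Γ →ₐ[K] Module.End K V := MonoidAlgebra.lift K (Module.End K V) Γ ρ
  let R : Subalgebra K (Module.End K V) := L.range
  have hss : IsSemisimpleRing (MonoidAlgebra K Γ) := by
    have : NeZero (Nat.card Γ : K) := ⟨hN⟩
    infer_instance
  have hR : IsSemisimpleRing R :=
    RingHom.isSemisimpleRing_of_surjective (L.rangeRestrict : MonoidAlgebra K Γ →+* R) L.rangeRestrict_surjective
  have hρR : ∀ g, ρ g ∈ R := fun g => ⟨MonoidAlgebra.of K Γ g, MonoidAlgebra.lift_of _ _⟩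
  let f : Module.End (Module.End R V) V :=
    { toFun := T
      map_add' := T.map_add
      map_smul' := by
        intro S v
        have h1 : T * S.restrictScalars K = S.restrictScalars K * T := by
          refine hT _ fun g => LinearMap.ext fun v => ?_
          exact S.map_smul (⟨ρ g, hρR g⟩ : R) v
        exact congrArg (fun t : Module.End K V => t v) h1 }
  let b := Module.finBasis K V
  obtain ⟨⟨r, a, ha⟩, hr⟩ := jacobson_density (R := R) (M := V) f (Finset.univ.image b)
  refine ⟨a, b.ext fun i => ?_⟩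
  have h1 := hr (b i) (Finset.mem_image_of_mem _ (Finset.mem_univ i))
  change T (b i) = L a (b i)
  have h2 : L a = r := ha
  rw [h2]
  exact h1

/-- central elements of the span are scalars on a component -/
theorem scalar_on [Fintype Γ] (ρ : Γ →* Module.End K V) (hN : (Nat.card Γ : K) ≠ 0) (h2 : (2 : K) ≠ 0)
    {e T : Module.End K V} (heρ : ∀ g, e * ρ g = ρ g * e)
    (hT : ∃ a : Γ → K, T = ∑ n, a n • ρ n) (hTc : ∀ g, T * ρ g = ρ g * T)
    (hcomm : ∀ g n, ρ g * ρ n * ρ g⁻¹ * e = ρ n * e ∨ ρ g * ρ n * ρ g⁻¹ * e = -(ρ n * e))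
    (hcent : ∀ n, (∀ g, ρ g * ρ n * ρ g⁻¹ * e = ρ n * e) → ∃ κ : K, ρ n * e = κ • e) : ∃ κ : K, T * e = κ • e := by
  classical
  -- the average
  have key : ∀ n : Γ, ∃ κ : K, (∑ g : Γ, ρ g * ρ n * ρ g⁻¹) * e = κ • e := by
    intro n
    by_cases h : ∀ g, ρ g * ρ n * ρ g⁻¹ * e = ρ n * e
    · obtain ⟨κ, hκ⟩ := hcent n h
      refine ⟨Fintype.card Γ * κ, ?_⟩
      rw [Finset.sum_mul, Finset.sum_congr rfl fun g _ => h g, Finset.sum_const, Finset.card_univ, hκ,
        ← Nat.cast_smul_eq_nsmul K, smul_smul]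
    · push Not at h
      obtain ⟨g0, hg0⟩ := h
      have h3 := (hcomm g0 n).resolve_left hg0
      refine ⟨0, ?_⟩
      rw [zero_smul]
      have h4 : (∑ g : Γ, ρ g * ρ n * ρ g⁻¹) * e = -((∑ g : Γ, ρ g * ρ n * ρ g⁻¹) * e) := by
        conv_lhs => rw [← Equiv.sum_comp (Equiv.mulRight g0)]
        rw [Finset.sum_mul, Finset.sum_mul, ← Finset.sum_neg_distrib]
        refine Finset.sum_congr rfl fun g _ => ?_
        rw [Equiv.coe_mulRight, mul_inv_rev, map_mul, map_mul]
        calc ρ g * ρ g0 * ρ n * (ρ g0⁻¹ * ρ g⁻¹) * e = ρ g * (ρ g0 * ρ n * ρ g0⁻¹ * (ρ g⁻¹ * e)) := by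
              simp only [mul_assoc]
          _ = ρ g * (ρ g0 * ρ n * ρ g0⁻¹ * e) * ρ g⁻¹ := by rw [← heρ]; simp only [mul_assoc]
          _ = -(ρ g * ρ n * (e * ρ g⁻¹)) := by rw [h3]; simp only [mul_neg, neg_mul, mul_assoc]
          _ = -(ρ g * ρ n * ρ g⁻¹ * e) := by rw [heρ, mul_assoc (ρ g * ρ n)]
      have h5 : (2 : K) • ((∑ g : Γ, ρ g * ρ n * ρ g⁻¹) * e) = 0 := by
        rw [two_smul]
        nth_rewrite 2 [h4]
        rw [add_neg_cancel]
      exact (smul_eq_zero.1 h5).resolve_left h2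
  -- the average of `T`
  obtain ⟨a, hTa⟩ := hT
  have h3 : (Fintype.card Γ : K) • (T * e) = ∑ n : Γ, a n • ((∑ g : Γ, ρ g * ρ n * ρ g⁻¹) * e) := by
    have h4 : ∀ g : Γ, ρ g * T * ρ g⁻¹ = T := fun g => by
      rw [← hTc, mul_assoc, ← map_mul, mul_inv_cancel, map_one, mul_one]
    have h5 : ∑ g : Γ, ρ g * T * ρ g⁻¹ = (Fintype.card Γ : K) • T := by
      rw [Finset.sum_congr rfl fun g _ => h4 g, Finset.sum_const, Finset.card_univ, Nat.cast_smul_eq_nsmul]
    rw [← smul_mul_assoc, ← h5, Finset.sum_mul]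
    have h6 : ∀ g : Γ, ρ g * T * ρ g⁻¹ * e = ∑ n : Γ, a n • (ρ g * ρ n * ρ g⁻¹ * e) := by
      intro g
      rw [hTa, Finset.mul_sum, Finset.sum_mul, Finset.sum_mul]
      refine Finset.sum_congr rfl fun n _ => ?_
      rw [mul_smul_comm, smul_mul_assoc, smul_mul_assoc]
    rw [Finset.sum_congr rfl fun g _ => h6 g, Finset.sum_comm]
    refine Finset.sum_congr rfl fun n _ => ?_
    rw [Finset.sum_mul, Finset.smul_sum]
  choose κ hκ using key
  refine ⟨(Fintype.card Γ : K)⁻¹ * ∑ n, a n * κ n, ?_⟩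
  have hc : (Fintype.card Γ : K) ≠ 0 := by rwa [← Nat.card_eq_fintype_card]
  rw [mul_smul, Finset.sum_smul]
  have h4 : ∑ n, (a n * κ n) • e = (Fintype.card Γ : K) • (T * e) := by
    rw [h3]
    refine Finset.sum_congr rfl fun n _ => ?_
    rw [hκ, smul_smul]
  rw [h4, smul_smul, inv_mul_cancel₀ hc, one_smul]

end rep

/-- **the commutant is a product of matrix algebras over `K`** -/
theorem exists_wedK {K : Type u} [Field K] [Finite K] {V : Type v} [AddCommGroup V] [Module K V]
    [FiniteDimensional K V] (N : Subgroup (V ≃ₗ[K] V)) [Finite N] (hN : (Nat.card N : K) ≠ 0) (h2 : (2 : K) ≠ 0)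
    {zh : V ≃ₗ[K] V} (zN : zh ∈ N) (z_sq : zh * zh = 1) (z_comm : ∀ n ∈ N, zh * n = n * zh)
    (comm : ∀ n ∈ N, ∀ m ∈ N, ∃ c : K, (c = 1 ∨ c = -1) ∧
      ((∀ v, (n * m) v = c • (m * n) v) ∨ (∀ v, (n * m) v = c • (zh * m * n) v)))
    (sq : ∀ n ∈ N, ∃ c : K, (IsSquare c ∧ IsSquare (-c)) ∧
      ((∀ v, (n * n) v = c • v) ∨ (∀ v, (n * n) v = c • zh v))) :
    ∃ (k : ℕ) (m : Fin k → ℕ) (_ : ∀ i, NeZero (m i))
      (J : (∀ i, Matrix (Fin (m i)) (Fin (m i)) K) →ₐ[K] Module.End K V),
      Function.Injective J ∧ ∀ T : Module.End K V, (∀ g ∈ N, T * (g : V →ₗ[K] V) = (g : V →ₗ[K] V) * T) ↔ ∃ X, J X = T := by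
  classical
  have := Fintype.ofFinite ↥N
  obtain ⟨k, D, m, iD, iA, iF, iN, J, hJ, hJr⟩ := Cfsg.Agent.H375.C3.exists_wed N hN
  let ρ : ↥N →* Module.End K V :=
    { toFun := fun g => ((g : V ≃ₗ[K] V) : V →ₗ[K] V)
      map_one' := rfl
      map_mul' := fun _ _ => rfl }
  have hJρ : ∀ T : Module.End K V, (∀ g : ↥N, T * ρ g = ρ g * T) ↔ ∃ X, J X = T := fun T => by
    rw [← hJr]
    exact ⟨fun h g hg => h ⟨g, hg⟩, fun h g => h g g.2⟩
  have key : ∀ i, Function.Surjective (algebraMap K (D i)) := by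
    intro i d
    -- central elements
    let E : ∀ d : D i, (∀ i, Matrix (Fin (m i)) (Fin (m i)) (D i)) := fun d => Pi.single i (Matrix.scalar (Fin (m i)) d)
    have hE : ∀ d X, E d * X = X * E d := by
      intro d X
      funext j
      by_cases hj : j = i
      · subst hj
        simp only [E, Pi.mul_apply, Pi.single_eq_same]
        exact Matrix.scalar_commute d (fun r => Commute.all _ _) (X j)
      · simp only [E, Pi.mul_apply, Pi.single_eq_of_ne hj, zero_mul, mul_zero]
    have hEE : ∀ d d', E d * E d' = E (d * d') := by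
      intro d d'
      simp only [E]
      rw [← Pi.single_mul, ← map_mul]
    -- central elements supported on `i` are some `E y`
    have hcen : ∀ X : (∀ i, Matrix (Fin (m i)) (Fin (m i)) (D i)), (∀ Y, X * Y = Y * X) → X * E 1 = X → ∃ y, X = E y := by
      intro X hX hX1
      have h3 : X i ∈ Set.range (Matrix.scalar (Fin (m i)) : D i →+* _) := by
        rw [Matrix.mem_range_scalar_iff_commute_single']
        intro a b
        have h4 := congrFun (hX (Pi.single i (Matrix.single a b 1))) i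
        simp only [Pi.mul_apply, Pi.single_eq_same] at h4
        exact h4.symm
      obtain ⟨y, hy⟩ := h3
      refine ⟨y, ?_⟩
      funext j
      by_cases hj : j = i
      · subst hj
        simp only [E, Pi.single_eq_same]
        exact hy.symm
      · rw [← hX1]
        simp only [E, Pi.mul_apply, Pi.single_eq_of_ne hj, mul_zero]
    set e : Module.End K V := J (E 1) with he
    have hee : e * e = e := by rw [he, ← map_mul, hEE, one_mul]
    have hcJ : ∀ X (g : ↥N), J X * ρ g = ρ g * J X := fun X g => (hJρ _).2 ⟨X, rfl⟩ g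
    have heρ : ∀ g, e * ρ g = ρ g * e := hcJ _
    -- elements of `End V` commuting with `N` and its commutant, supported on `e`
    have hcen' : ∀ S : Module.End K V, (∀ g, S * ρ g = ρ g * S) → (∀ X, S * J X = J X * S) → S * e = S →
        ∃ y, S = J (E y) := by
      intro S h3 h4 h5
      obtain ⟨X, rfl⟩ := (hJρ S).1 h3
      obtain ⟨y, rfl⟩ := hcen X (fun Y => hJ (by rw [map_mul, map_mul, h4])) (hJ (by rw [map_mul]; exact h5))
      exact ⟨y, rfl⟩
    have hEinj : ∀ y y', J (E y) = J (E y') → y = y' := by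
      intro y y' h3
      have h4 := congrFun (hJ h3) i
      simp only [E, Pi.single_eq_same] at h4
      exact Matrix.scalar_inj.1 h4
    -- `z = ± 1` on the component
    have hz : ρ ⟨zh, zN⟩ * e = e ∨ ρ ⟨zh, zN⟩ * e = -e := by
      have h3 : ∀ g, ρ ⟨zh, zN⟩ * ρ g = ρ g * ρ ⟨zh, zN⟩ := fun g => by
        rw [← map_mul, ← map_mul]
        congr 1
        exact Subtype.ext (z_comm g g.2)
      obtain ⟨y, hy⟩ := hcen' (ρ ⟨zh, zN⟩ * e) (fun g => by rw [mul_assoc, heρ, ← mul_assoc, h3, mul_assoc])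
        (fun X => by
          rw [mul_assoc, he, ← map_mul, hE, map_mul, ← mul_assoc, ← hcJ, mul_assoc]) (by rw [mul_assoc, hee])
      have h4 : y * y = 1 := by
        refine hEinj _ _ ?_
        rw [← hEE, map_mul, ← hy, ← he]
        calc ρ ⟨zh, zN⟩ * e * (ρ ⟨zh, zN⟩ * e) = ρ ⟨zh, zN⟩ * ρ ⟨zh, zN⟩ * (e * e) := by
              rw [mul_assoc, ← mul_assoc e, heρ]; simp only [mul_assoc]
          _ = e := by
              rw [hee, ← map_mul]
              have : (⟨zh, zN⟩ * ⟨zh, zN⟩ : ↥N) = 1 := Subtype.ext z_sq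
              rw [this, map_one, one_mul]
      rcases mul_self_eq_one_iff.1 h4 with rfl | rfl
      · exact Or.inl hy
      · right
        rw [hy, he]
        have : E (-1) = - E 1 := by
          simp only [E]
          rw [map_neg, Pi.single_neg]
        rw [this, map_neg]
    have hρv : ∀ (g : ↥N) v, ρ g v = (g : V ≃ₗ[K] V) v := fun _ _ => rfl
    have hze : ∃ ε : K, (ε = 1 ∨ ε = -1) ∧ ρ ⟨zh, zN⟩ * e = ε • e := by
      rcases hz with h | h
      · exact ⟨1, Or.inl rfl, by rw [h, one_smul]⟩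
      · exact ⟨-1, Or.inr rfl, by rw [h, neg_one_smul]⟩
    obtain ⟨ε, hε, hze⟩ := hze
    obtain ⟨κ, hκ⟩ := scalar_on ρ hN h2 (e := e) (T := J (E d)) heρ
      (mem_span_of_central ρ hN fun S hS => by
        obtain ⟨X, rfl⟩ := (hJρ S).1 hS
        rw [← map_mul, hE, map_mul])
      (hcJ _)
      (fun g n => by
        obtain ⟨c, hc, h3⟩ := comm g g.2 n n.2
        have h4 : ∃ c' : K, (c' = 1 ∨ c' = -1) ∧ ρ g * ρ n * e = c' • (ρ n * ρ g * e) := by
          rcases h3 with h3 | h3
          · exact ⟨c, hc, LinearMap.ext fun v => h3 (e v)⟩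
          · refine ⟨c * ε, ?_, ?_⟩
            · rcases hc with rfl | rfl <;> rcases hε with rfl | rfl <;> simp
            · have h5 : ρ g * ρ n * e = c • (ρ ⟨zh, zN⟩ * ρ n * ρ g * e) := LinearMap.ext fun v => h3 (e v)
              rw [h5, mul_smul]
              congr 1
              have h6 : ∀ g, ρ ⟨zh, zN⟩ * ρ g = ρ g * ρ ⟨zh, zN⟩ := fun g => by
                rw [← map_mul, ← map_mul]
                congr 1
                exact Subtype.ext (z_comm g g.2)
              calc ρ ⟨zh, zN⟩ * ρ n * ρ g * e = ρ n * ρ g * (ρ ⟨zh, zN⟩ * e) := by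
                    rw [h6 n, mul_assoc (ρ n), h6 g]; simp only [mul_assoc]
                _ = ε • (ρ n * ρ g * e) := by rw [hze, mul_smul_comm]
        obtain ⟨c', hc', h4⟩ := h4
        have h7 : ρ g * ρ n * ρ g⁻¹ * e = c' • (ρ n * e) := by
          calc ρ g * ρ n * ρ g⁻¹ * e = ρ g * ρ n * e * ρ g⁻¹ := by
                rw [mul_assoc (ρ g * ρ n), ← heρ, ← mul_assoc]
            _ = c' • (ρ n * ρ g * e * ρ g⁻¹) := by rw [h4, smul_mul_assoc]
            _ = c' • (ρ n * e) := by
                rw [mul_assoc (ρ n * ρ g), heρ, ← mul_assoc, mul_assoc (ρ n), ← map_mul, mul_inv_cancel, map_one,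
                  mul_one]
        rcases hc' with rfl | rfl
        · left; rw [h7, one_smul]
        · right; rw [h7, neg_one_smul])
      (fun n hn => by
        obtain ⟨y, hy⟩ := hcen' (ρ n * e) (fun g => by
            have h3 := hn g
            calc ρ n * e * ρ g = ρ g * ρ n * ρ g⁻¹ * e * ρ g := by rw [h3]
              _ = ρ g * ρ n * (ρ g⁻¹ * ρ g) * e := by rw [mul_assoc _ e, heρ]; simp only [mul_assoc]
              _ = ρ g * (ρ n * e) := by
                rw [show ρ g⁻¹ * ρ g = 1 by rw [← map_mul, inv_mul_cancel, map_one], mul_one, mul_assoc])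
          (fun X => by rw [mul_assoc, he, ← map_mul, hE, map_mul, ← mul_assoc, ← hcJ, mul_assoc])
          (by rw [mul_assoc, hee])
        obtain ⟨c, ⟨hc1, hc2⟩, h3⟩ := sq n n.2
        have h4 : ∃ c' : K, IsSquare c' ∧ ρ n * ρ n * e = c' • e := by
          rcases h3 with h3 | h3
          · exact ⟨c, hc1, LinearMap.ext fun v => h3 (e v)⟩
          · have h5 : ρ n * ρ n * e = c • (ρ ⟨zh, zN⟩ * e) := LinearMap.ext fun v => h3 (e v)
            rw [hze, smul_smul] at h5
            refine ⟨c * ε, ?_, h5⟩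
            rcases hε with rfl | rfl
            · rwa [mul_one]
            · rwa [mul_neg_one]
        obtain ⟨c', ⟨a, rfl⟩, h4⟩ := h4
        have hEs : ∀ κ : K, κ • e = J (E (algebraMap K (D i) κ)) := by
          intro κ
          rw [he, ← map_smul]
          congr 1
          simp only [E]
          rw [← Pi.single_smul]
          congr 1
          ext a b
          rw [Matrix.smul_apply, Matrix.scalar_apply, Matrix.scalar_apply, Matrix.diagonal_apply, Matrix.diagonal_apply]
          split_ifs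
          · rw [Algebra.smul_def, mul_one]
          · rw [smul_zero]
        have h5 : y * y = algebraMap K (D i) a * algebraMap K (D i) a := by
          refine hEinj _ _ ?_
          rw [← map_mul, ← hEs, ← h4, ← hEE, map_mul J, ← hy]
          calc ρ n * e * (ρ n * e) = ρ n * ρ n * (e * e) := by
                rw [mul_assoc, ← mul_assoc e, heρ]; simp only [mul_assoc]
            _ = ρ n * ρ n * e := by rw [hee]
        rcases mul_self_eq_mul_self_iff.1 h5 with h6 | h6
        · exact ⟨a, by rw [hEs, hy, h6]⟩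
        · exact ⟨-a, by rw [hEs, hy, h6, map_neg]⟩)
    refine ⟨κ, hEinj _ _ ?_⟩
    have h8 : J (E d) * e = J (E d) := by rw [he, ← map_mul, hEE, mul_one]
    rw [← h8, hκ]
    rw [he, ← map_smul]
    congr 1
    simp only [E]
    rw [← Pi.single_smul]
    congr 1
    ext a b
    rw [Matrix.smul_apply, Matrix.scalar_apply, Matrix.scalar_apply, Matrix.diagonal_apply, Matrix.diagonal_apply]
    split_ifs
    · rw [Algebra.smul_def, mul_one]
    · rw [smul_zero]
  let M : (∀ i, Matrix (Fin (m i)) (Fin (m i)) K) →ₐ[K] (∀ i, Matrix (Fin (m i)) (Fin (m i)) (D i)) :=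
    AlgHom.pi fun i => ((Algebra.ofId K (D i)).mapMatrix).comp (Pi.evalAlgHom K _ i)
  have hM : ∀ X i, M X i = (X i).map (algebraMap K (D i)) := fun X i => rfl
  have hMi : Function.Injective M := by
    intro X Y h
    funext i
    have h3 := congrFun h i
    rw [hM, hM] at h3
    exact Matrix.map_injective (algebraMap K (D i)).injective h3
  have hMs : Function.Surjective M := by
    intro Y
    choose f hf using key
    refine ⟨fun i => (Y i).map (f i), ?_⟩
    funext i
    rw [hM]
    ext a b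
    rw [Matrix.map_apply, Matrix.map_apply, hf]
  refine ⟨k, m, iN, J.comp M, hJ.comp hMi, fun T => ?_⟩
  rw [hJr]
  constructor
  · rintro ⟨X, hX⟩
    obtain ⟨Y, rfl⟩ := hMs X
    exact ⟨Y, hX⟩
  · rintro ⟨X, hX⟩
    exact ⟨M X, hX⟩

end Cfsg.Agent.H601.C3
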