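import Cfsg.Agent.H601.C3.Std
import Cfsg.Agent.H601.C3.WedK

/-!
# The decomposition of the commutant with its involution (helper601, S1920 PSU)

`exists_dec`, `det_phi`.
-/

set_option autoImplicit false

open Module

namespace Cfsg.Agent.H601.C3

universe u v

section prod

variable {K : Type u} [Field K] {k : ℕ} {m : Fin k → ℕ}

/-- central idempotents of a product of matrix algebras -/
theorem central_idem {X : ∀ i, Matrix (Fin (m i)) (Fin (m i)) K} (hX : ∀ Y, X * Y = Y * X) (h2 : X * X = X)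
    (i : Fin k) : X i = 0 ∨ X i = 1 := by
  obtain ⟨a, ha⟩ := scalar_of_central (c := X i) (fun Y => by
    have h3 := congrFun (hX (Pi.single i Y)) i
    rwa [Pi.mul_apply, Pi.mul_apply, Pi.single_eq_same] at h3)
  have h3 : (a * a - a) • (1 : Matrix (Fin (m i)) (Fin (m i)) K) = 0 := by
    have h4 := congrFun h2 i
    rw [Pi.mul_apply, ha, smul_mul_smul_comm, one_mul] at h4
    rw [sub_smul, h4, sub_self]
  rcases smul_eq_zero.1 h3 with h4 | h4
  · have h5 : a * (a - 1) = 0 := by rw [← h4]; ring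
    rcases mul_eq_zero.1 h5 with h6 | h6
    · left; rw [ha, h6, zero_smul]
    · right; rw [ha, sub_eq_zero.1 h6, one_smul]
  · left; rw [ha, h4, smul_zero]

/-- the permutation of the components -/
theorem exists_tau [∀ i, NeZero (m i)]
    {st : (∀ i, Matrix (Fin (m i)) (Fin (m i)) K) → (∀ i, Matrix (Fin (m i)) (Fin (m i)) K)}
    (hmul : ∀ X Y, st (X * Y) = st Y * st X) (hinv : ∀ X, st (st X) = X) (hz : st 0 = 0) :
    ∃ τ : Fin k → Fin k, (∀ i, st (Pi.single i 1) = Pi.single (τ i) 1) ∧ ∀ i, τ (τ i) = i := by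
  classical
  let E : Fin k → (∀ i, Matrix (Fin (m i)) (Fin (m i)) K) := fun i => Pi.single i 1
  have hEc : ∀ i X, E i * X = X * E i := by
    intro i X
    funext j
    by_cases hj : j = i
    · subst hj
      simp only [E, Pi.mul_apply, Pi.single_eq_same, one_mul, mul_one]
    · simp only [E, Pi.mul_apply, Pi.single_eq_of_ne hj, zero_mul, mul_zero]
  have hEE : ∀ i, E i * E i = E i := by
    intro i
    simp only [E]
    rw [← Pi.single_mul, one_mul]
  have hE0 : ∀ i, E i ≠ 0 := by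
    intro i h
    have h1 := congrFun h i
    simp only [E, Pi.single_eq_same, Pi.zero_apply] at h1
    exact one_ne_zero h1
  have hcen : ∀ X, (∀ Y, X * Y = Y * X) → ∀ Y, st X * Y = Y * st X := by
    intro X hX Y
    rw [← hinv Y, ← hmul, ← hmul, hX]
  have hst0 : ∀ X, st X = 0 → X = 0 := by
    intro X h
    rw [← hinv X, h, hz]
  have hdich : ∀ X, (∀ Y, X * Y = Y * X) → X * X = X → ∀ j, E j * X = 0 ∨ E j * X = E j := by
    intro X hX h2 j
    rcases central_idem hX h2 j with h | h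
    · left
      funext l
      by_cases hl : l = j
      · subst hl
        simp only [Pi.mul_apply, h, mul_zero, Pi.zero_apply]
      · simp only [E, Pi.mul_apply, Pi.single_eq_of_ne hl, zero_mul, Pi.zero_apply]
    · right
      funext l
      by_cases hl : l = j
      · subst hl
        simp only [Pi.mul_apply, h, mul_one]
      · simp only [E, Pi.mul_apply, Pi.single_eq_of_ne hl, zero_mul]
  have hex : ∀ X, (∀ Y, X * Y = Y * X) → X * X = X → X ≠ 0 → ∃ j, E j * X = E j := by
    intro X hX h2 h0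
    by_contra hn
    push Not at hn
    apply h0
    funext l
    have h1 := congrFun ((hdich X hX h2 l).resolve_right (hn l)) l
    simpa only [E, Pi.mul_apply, Pi.single_eq_same, one_mul] using h1
  have key : ∀ i, ∃ j, st (E i) = E j := by
    intro i
    obtain ⟨j, hj⟩ := hex (st (E i)) (hcen _ (hEc i)) (by rw [← hmul, hEE]) (fun h => hE0 i (hst0 _ h))
    have h1 : E i * st (E j) = st (E j) := by
      conv_rhs => rw [← hj, hmul, hinv]
    rcases hdich (st (E j)) (hcen _ (hEc j)) (by rw [← hmul, hEE]) i with h2 | h2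
    · exact absurd (hst0 _ (h1.symm.trans h2)) (hE0 j)
    · exact ⟨j, by rw [← h2, h1, hinv]⟩
  choose τ hτ using key
  refine ⟨τ, hτ, fun i => ?_⟩
  have h1 : E (τ (τ i)) = E i := by rw [← hτ, ← hτ, hinv]
  by_contra hn
  have h2 := congrFun h1 i
  simp only [E, Pi.single_eq_same, Pi.single_eq_of_ne (Ne.symm hn)] at h2
  exact zero_ne_one h2

/-- the sum over the pairs -/
theorem sum_pairs {M : Type*} [AddCommMonoid M] {τ : Fin k → Fin k} (hτ : ∀ i, τ (τ i) = i) (f : Fin k → M) :
    ∑ i : {i : Fin k // i ≤ τ i}, (f i + if τ i = i then 0 else f (τ i)) = ∑ i, f i := by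
  classical
  rw [← Finset.sum_filter_add_sum_filter_not Finset.univ (fun i : Fin k => i ≤ τ i) f, Finset.sum_add_distrib]
  congr 1
  · exact (Finset.sum_subtype _ (by simp) f).symm
  · rw [← Finset.sum_subtype (Finset.univ.filter fun i : Fin k => i ≤ τ i) (by simp)
      (fun i => if τ i = i then 0 else f (τ i)), Finset.sum_ite, Finset.sum_const_zero, zero_add]
    refine Finset.sum_bij' (fun i _ => τ i) (fun i _ => τ i) ?_ ?_ ?_ ?_ ?_
    · intro i hi
      rw [Finset.mem_filter, Finset.mem_filter] at hi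
      rw [Finset.mem_filter, hτ, not_le]
      exact ⟨Finset.mem_univ _, lt_of_le_of_ne hi.1.2 (Ne.symm hi.2)⟩
    · intro i hi
      rw [Finset.mem_filter, not_le] at hi
      rw [Finset.mem_filter, Finset.mem_filter, hτ]
      exact ⟨⟨Finset.mem_univ _, hi.2.le⟩, hi.2.ne'⟩
    · exact fun i _ => hτ i
    · exact fun i _ => hτ i
    · exact fun i _ => rfl

end prod

/-- squares in the field with `q²` elements -/
theorem isSquare_of_pow {K : Type u} [Field K] [Finite K] {q : ℕ} (hq : Nat.card K = q ^ 2) (h2 : (2 : K) ≠ 0) {c : K}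
    (hc : c ^ (q + 1) = 1) : IsSquare c ∧ IsSquare (-c) := by
  have := Fintype.ofFinite K
  rw [Nat.card_eq_fintype_card] at hq
  have hchar : ringChar K ≠ 2 := by
    intro h
    apply h2
    have h3 := ringChar.Nat.cast_ringChar (R := K)
    rw [h] at h3
    exact_mod_cast h3
  have hodd : q % 2 = 1 := by
    have h3 : Fintype.card K % 2 ≠ 0 := fun h => hchar (FiniteField.even_card_iff_char_two.2 h)
    rcases Nat.mod_two_eq_zero_or_one q with h | h
    · exfalso
      apply h3
      rw [hq, sq, Nat.mul_mod, h]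
    · exact h
  obtain ⟨r, hr⟩ : ∃ r, q = 2 * r + 1 := ⟨q / 2, by omega⟩
  have hcard : Fintype.card K / 2 = (q + 1) * r := by
    have h3 : Fintype.card K = 2 * ((q + 1) * r) + 1 := by rw [hq, hr]; ring
    omega
  have hev : Even (q + 1) := ⟨r + 1, by omega⟩
  have key : ∀ c : K, c ^ (q + 1) = 1 → IsSquare c := by
    intro c hc
    have hc0 : c ≠ 0 := by
      rintro rfl
      rw [zero_pow (Nat.succ_ne_zero q)] at hc
      exact zero_ne_one hc
    rw [FiniteField.isSquare_iff hchar hc0, hcard, pow_mul, hc, one_pow]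
  exact ⟨key c hc, key (-c) (by rw [hev.neg_pow, hc])⟩

/-- `σ` is not the identity -/
theorem exists_ne {K : Type u} [Field K] [Finite K] {q : ℕ} (hq : Nat.card K = q ^ 2) {σ : K ≃+* K}
    (hσ : ∀ c, σ c = c ^ q) : ∃ a, σ a ≠ a := by
  by_contra hn
  push Not at hn
  have := Fintype.ofFinite K
  obtain ⟨g, hg⟩ := IsCyclic.exists_generator (α := Kˣ)
  have h1 : orderOf g = q ^ 2 - 1 := by
    rw [orderOf_eq_card_of_forall_mem_zpowers hg, Nat.card_units, hq]
  have hq1 : 1 < q := by
    have h3 : 1 < Nat.card K := Finite.one_lt_card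
    rw [hq] at h3
    by_contra h4
    interval_cases q <;> omega
  have h2 : g ^ (q - 1) = 1 := by
    have h3 : g ^ q = g := Units.ext (by rw [Units.val_pow_eq_pow_val, ← hσ, hn])
    have h4 : g ^ (q - 1) * g = g := by rw [← pow_succ, Nat.sub_add_cancel hq1.le, h3]
    exact mul_eq_right.1 h4
  have h3 := orderOf_dvd_of_pow_eq_one h2
  rw [h1] at h3
  have h4 := Nat.le_of_dvd (by omega) h3
  have h5 : q ^ 2 = q * q := sq q
  have h6 : q * 2 ≤ q * q := Nat.mul_le_mul_left _ hq1
  omega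

variable {K : Type u} [Field K] {V : Type v} [AddCommGroup V] [Module K V]

theorem Star.one {σ : K ≃+* K} {ad : Module.End K V → Module.End K V} (S : Star σ ad) : ad 1 = 1 := by
  have h3 : ad 1 * ad (ad 1) = ad (ad 1) := by rw [← S.mul, mul_one]
  rw [S.inv, mul_one] at h3
  exact h3

theorem Star.zero {σ : K ≃+* K} {ad : Module.End K V → Module.End K V} (S : Star σ ad) : ad 0 = 0 := by
  have h3 := S.add 0 0
  rw [add_zero] at h3
  exact left_eq_add.1 h3

/-- **the decomposition of the commutant** -/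
theorem exists_dec [Finite K] [FiniteDimensional K V] {q : ℕ} (hq : Nat.card K = q ^ 2) {σ : K ≃+* K}
    (hσ : ∀ c, σ c = c ^ q) (h2 : (2 : K) ≠ 0) {ad : Module.End K V → Module.End K V} (S : Star σ ad)
    (N : Subgroup (V ≃ₗ[K] V)) [Finite N] (hN : (Nat.card N : K) ≠ 0)
    (hu : ∀ g ∈ N, ad (g : V →ₗ[K] V) * (g : V →ₗ[K] V) = 1)
    {zh : V ≃ₗ[K] V} (zN : zh ∈ N) (z_sq : zh * zh = 1) (z_comm : ∀ n ∈ N, zh * n = n * zh)
    (comm : ∀ n ∈ N, ∀ m ∈ N, ∃ c : K, (c = 1 ∨ c = -1) ∧
      ((∀ v, (n * m) v = c • (m * n) v) ∨ (∀ v, (n * m) v = c • (zh * m * n) v)))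
    (sq : ∀ n ∈ N, ∃ c : K, c ≠ 0 ∧ ((∀ v, (n * n) v = c • v) ∨ (∀ v, (n * n) v = c • zh v))) :
    ∃ (ι : Type) (_ : Fintype ι) (m : ι → ℕ) (u : ι → Bool)
      (φ : ∀ i, Matrix (Fin (m i)) (Fin (m i)) K →ₗ[K] Module.End K V), Dec σ ad N u φ := by
  classical
  have h1 := exists_ne hq hσ
  have h22 : ∀ a, σ (σ a) = a := by
    intro a
    have := Fintype.ofFinite K
    rw [hσ, hσ, ← pow_mul, ← _root_.sq, ← hq, Nat.card_eq_fintype_card, FiniteField.pow_card]
  -- squares
  have hsq' : ∀ n ∈ N, ∃ c : K, (IsSquare c ∧ IsSquare (-c)) ∧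
      ((∀ v, (n * n) v = c • v) ∨ (∀ v, (n * n) v = c • zh v)) := by
    intro n hn
    obtain ⟨c, -, h3⟩ := sq n hn
    rcases subsingleton_or_nontrivial V with hV | hV
    · exact ⟨1, isSquare_of_pow hq h2 (one_pow _), Or.inl fun v => Subsingleton.elim _ _⟩
    · refine ⟨c, isSquare_of_pow hq h2 ?_, h3⟩
      have h4 : ad (((n : V →ₗ[K] V) * (n : V →ₗ[K] V) : Module.End K V)) * ((n : V →ₗ[K] V) * (n : V →ₗ[K] V)) = 1 := by
        rw [S.mul, mul_assoc, ← mul_assoc _ (n : V →ₗ[K] V) (n : V →ₗ[K] V), hu n hn, one_mul, hu n hn]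
      have h5 : (σ c * c) • (1 : Module.End K V) = 1 := by
        rcases h3 with h3 | h3
        · have h6 : ((n : V →ₗ[K] V) * (n : V →ₗ[K] V) : Module.End K V) = c • 1 := LinearMap.ext h3
          rw [h6, S.smul, S.one, smul_mul_smul_comm, one_mul] at h4
          exact h4
        · have h6 : ((n : V →ₗ[K] V) * (n : V →ₗ[K] V) : Module.End K V) = c • (zh : V →ₗ[K] V) := LinearMap.ext h3
          rw [h6, S.smul, smul_mul_smul_comm, hu zh zN] at h4
          exact h4
      have h6 : (σ c * c - 1) • (1 : Module.End K V) = 0 := by rw [sub_smul, h5, one_smul, sub_self]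
      rcases smul_eq_zero.1 h6 with h7 | h7
      · rw [pow_succ, ← hσ]
        exact sub_eq_zero.1 h7
      · exact absurd h7 one_ne_zero
  obtain ⟨k, m, hm, J, hJ, hJr⟩ := exists_wedK N hN h2 zN z_sq z_comm comm hsq'
  -- the involution on the product
  have hst : ∀ X, ∃ Y, J Y = ad (J X) := by
    intro X
    refine (hJr _).1 fun g hg => ?_
    have h3 : ad ((g⁻¹ : V ≃ₗ[K] V) : V →ₗ[K] V) = (g : V →ₗ[K] V) := by
      have h4 := hu g⁻¹ (inv_mem hg)
      have h5 : (((g⁻¹ : V ≃ₗ[K] V) : V →ₗ[K] V) * (g : V →ₗ[K] V) : Module.End K V) = 1 :=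
        LinearMap.ext fun v => g.symm_apply_apply v
      calc ad ((g⁻¹ : V ≃ₗ[K] V) : V →ₗ[K] V)
          = ad ((g⁻¹ : V ≃ₗ[K] V) : V →ₗ[K] V) * (((g⁻¹ : V ≃ₗ[K] V) : V →ₗ[K] V) * (g : V →ₗ[K] V)) := by
            rw [h5, mul_one]
        _ = (g : V →ₗ[K] V) := by rw [← mul_assoc, h4, one_mul]
    rw [← h3, ← S.mul, ← S.mul, (hJr (J X)).2 ⟨X, rfl⟩ g⁻¹ (inv_mem hg)]
  choose st hst using hst
  have sadd : ∀ X Y, st (X + Y) = st X + st Y := fun X Y => hJ (by rw [hst, map_add, S.add, map_add, hst, hst])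
  have ssmul : ∀ (c : K) X, st (c • X) = σ c • st X := fun c X => hJ (by rw [hst, map_smul, S.smul, map_smul, hst])
  have smul : ∀ X Y, st (X * Y) = st Y * st X := fun X Y => hJ (by rw [hst, map_mul, S.mul, map_mul, hst, hst])
  have sinv : ∀ X, st (st X) = X := fun X => hJ (by rw [hst, hst, S.inv])
  have szero : st 0 = 0 := hJ (by rw [hst, map_zero, S.zero])
  obtain ⟨τ, hτE, hτ⟩ := exists_tau smul sinv szero
  -- supports
  have hsup : ∀ i (X : Matrix (Fin (m i)) (Fin (m i)) K), st (Pi.single i X) = Pi.single (τ i) (st (Pi.single i X) (τ i)) := by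
    intro i X
    have h3 : st (Pi.single i X) = st (Pi.single i X) * Pi.single (τ i) 1 := by
      rw [← hτE, ← smul, ← Pi.single_mul, one_mul]
    funext l
    by_cases hl : l = τ i
    · subst hl
      rw [Pi.single_eq_same]
    · rw [h3, Pi.mul_apply, Pi.single_eq_of_ne hl, mul_zero, Pi.single_eq_of_ne hl]
  have hsingle : ∀ i j, i ≠ j → ∀ (X : Matrix (Fin (m i)) (Fin (m i)) K) (Y : Matrix (Fin (m j)) (Fin (m j)) K),
      (Pi.single i X * Pi.single j Y : ∀ i, Matrix (Fin (m i)) (Fin (m i)) K) = 0 := by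
    intro i j hij X Y
    funext l
    rw [Pi.mul_apply, Pi.zero_apply]
    by_cases hl : l = i
    · subst hl
      rw [Pi.single_eq_of_ne hij, mul_zero]
    · rw [Pi.single_eq_of_ne hl, zero_mul]
  -- standard coordinates
  have hPQ : ∀ i, ∃ P Q : Matrix (Fin (m i)) (Fin (m i)) K, P * Q = 1 ∧ Q * P = 1 ∧
      (τ i = i → ∀ Y, st (Pi.single i (Q * Y * P)) = Pi.single i (Q * hc σ Y * P)) := by
    intro i
    by_cases hi : τ i = i
    · have hs' : ∀ X : Matrix (Fin (m i)) (Fin (m i)) K, st (Pi.single i X) = Pi.single i (st (Pi.single i X) i) := by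
        intro X
        have h3 := hsup i X
        rw [hi] at h3
        exact h3
      obtain ⟨P, Q, hPQ, hQP, h3⟩ := std h1 h22 (fun X : Matrix (Fin (m i)) (Fin (m i)) K => st (Pi.single i X) i)
        (fun X Y => by rw [Pi.single_add, sadd]; rfl)
        (fun c X => by rw [Pi.single_smul, ssmul]; rfl)
        (fun X Y => by rw [Pi.single_mul, smul]; rfl)
        (fun X => by
          rw [← hs', sinv, Pi.single_eq_same])
      refine ⟨P, Q, hPQ, hQP, fun _ Y => ?_⟩
      rw [hs', h3]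
    · exact ⟨1, 1, mul_one _, mul_one _, fun h => absurd h hi⟩
  choose P Q hPQ hQP hPQs using hPQ
  let φ : ∀ i : Fin k, Matrix (Fin (m i)) (Fin (m i)) K →ₗ[K] Module.End K V := fun i =>
    { toFun := fun X => J (Pi.single i (Q i * X * P i))
      map_add' := fun X Y => by rw [mul_add, add_mul, Pi.single_add, map_add]
      map_smul' := fun c X => by rw [mul_smul_comm, smul_mul_assoc, Pi.single_smul, map_smul]; rfl }
  have hφ : ∀ i X, φ i X = J (Pi.single i (Q i * X * P i)) := fun _ _ => rfl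
  have hφ' : ∀ i (X : Matrix (Fin (m i)) (Fin (m i)) K), φ i (P i * X * Q i) = J (Pi.single i X) := by
    intro i X
    rw [hφ]
    congr 2
    calc Q i * (P i * X * Q i) * P i = (Q i * P i) * X * (Q i * P i) := by simp only [mul_assoc]
      _ = X := by rw [hQP, one_mul, mul_one]
  have hadφ : ∀ i X, ad (φ i X) = J (Pi.single (τ i) (st (Pi.single i (Q i * X * P i)) (τ i))) := by
    intro i X
    rw [hφ, ← hst, hsup]
    congr 1
    rw [Pi.single_eq_same]
  refine ⟨{i : Fin k // i ≤ τ i}, inferInstance, fun i => m i, fun i => decide (τ i = i), fun i => φ i, ?_⟩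
  have hne : ∀ i j : {i : Fin k // i ≤ τ i}, i ≠ j → (i : Fin k) ≠ τ j := by
    intro i j hij h
    apply hij
    have h3 : τ i = j := by rw [h, hτ]
    exact Subtype.ext (le_antisymm (h3 ▸ i.2) (h ▸ j.2))
  have hne' : ∀ i j : {i : Fin k // i ≤ τ i}, i ≠ j → (i : Fin k) ≠ j := fun i j hij h => hij (Subtype.ext h)
  refine ⟨fun i => Nat.pos_of_ne_zero (NeZero.ne _), ?_, ?_, ?_, ?_, ?_, ?_, ?_, ?_⟩
  · intro i X Y
    rw [hφ, hφ, hφ, ← map_mul, ← Pi.single_mul]
    congr 2
    calc Q i * (X * Y) * P i = Q i * X * 1 * Y * P i := by rw [mul_one]; simp only [mul_assoc]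
      _ = _ := by rw [← hPQ i]; simp only [mul_assoc]
  · intro i X Y h
    rw [hφ, hφ] at h
    have h3 := Pi.single_injective _ (hJ h)
    have h4 := congrArg (fun Z => P i * Z * Q i) h3
    simp only [← mul_assoc, hPQ, one_mul] at h4
    simpa only [mul_assoc, hPQ, mul_one] using h4
  · intro i X g hg
    exact (hJr (φ i X)).2 ⟨_, rfl⟩ g hg
  · intro i j hij X Y
    rw [hφ, hφ, ← map_mul, hsingle _ _ (hne' i j hij), map_zero]
  · intro i j hij X Y
    constructor
    · rw [hφ, hadφ, ← map_mul, hsingle _ _ (hne i j hij), map_zero]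
    · rw [hadφ, hφ, ← map_mul, hsingle _ _ (Ne.symm (hne j i (Ne.symm hij))), map_zero]
  · intro i hi X
    have hi' : τ i = i := of_decide_eq_true hi
    rw [hφ, ← hst, hPQs i hi', hφ]
  · intro i hi X Y
    have hi' : τ i ≠ i := of_decide_eq_false hi
    constructor
    · rw [hφ, hadφ, ← map_mul, hsingle _ _ (Ne.symm hi'), map_zero]
    · rw [hadφ, hφ, ← map_mul, hsingle _ _ hi', map_zero]
  · intro T hT
    obtain ⟨X, rfl⟩ := (hJr T).1 hT
    refine ⟨fun i => P i * X i * Q i, fun i => P i * (st (Pi.single (τ i) (X (τ i))) i) * Q i, ?_⟩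
    have h3 : J X = ∑ i, J (Pi.single i (X i)) := by
      rw [← map_sum]
      congr 1
      exact (Finset.univ_sum_single X).symm
    rw [h3, ← sum_pairs hτ]
    refine Finset.sum_congr rfl fun i _ => ?_
    rw [hφ']
    congr 1
    by_cases hi : τ i = i
    · rw [if_pos hi, if_pos (decide_eq_true hi)]
    · rw [if_neg hi, if_neg (by rw [decide_eq_true_eq]; exact hi), hφ', ← hst]
      congr 1
      have h4 := hsup (τ i) (X (τ i))
      rw [hτ] at h4
      rw [← h4, sinv]

end Cfsg.Agent.H601.C3
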