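import Cfsg.Agent.H415.C3.LKit

/-!
# S1920, case B, `PSU_n(q)`: the commutant of `Nh` with the adjoint involution (helper601, interface)

* `Star σ ad` : `ad` is a `σ`-semilinear involution of `End V` (adjoint with respect to a hermitian form);
* `hc σ X` : conjugate transpose;
* `Dec σ ad N u φ` : the commutant of `N` is the product of the `φ i (M_{m i}(K))` (and of the `ad (φ i (M_{m i}(K)))` if
  `u i = false`), `ad (φ i X) = φ i (hc σ X)` if `u i = true`.
-/

set_option autoImplicit false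

open Subgroup

namespace Cfsg.Agent.H601.C3

variable {K : Type*} [Field K] {V : Type*} [AddCommGroup V] [Module K V]

/-- an involution of the second kind -/
structure Star (σ : K ≃+* K) (ad : Module.End K V → Module.End K V) : Prop where
  add : ∀ X Y, ad (X + Y) = ad X + ad Y
  smul : ∀ (c : K) X, ad (c • X) = σ c • ad X
  mul : ∀ X Y, ad (X * Y) = ad Y * ad X
  inv : ∀ X, ad (ad X) = X

/-- conjugate transpose -/
def hc (σ : K ≃+* K) {m : ℕ} (X : Matrix (Fin m) (Fin m) K) : Matrix (Fin m) (Fin m) K := (X.map σ).transpose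

/-- **the decomposition of the commutant of `N`** -/
structure Dec (σ : K ≃+* K) (ad : Module.End K V → Module.End K V) (N : Subgroup (V ≃ₗ[K] V)) {ι : Type} [Fintype ι]
    {m : ι → ℕ} (u : ι → Bool) (φ : ∀ i, Matrix (Fin (m i)) (Fin (m i)) K →ₗ[K] Module.End K V) : Prop where
  pos : ∀ i, 0 < m i
  mul : ∀ i X Y, φ i (X * Y) = φ i X * φ i Y
  inj : ∀ i, Function.Injective (φ i)
  comm : ∀ i X, ∀ g ∈ N, φ i X * (g : V →ₗ[K] V) = (g : V →ₗ[K] V) * φ i X
  orth : ∀ i j, i ≠ j → ∀ X Y, φ i X * φ j Y = 0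
  orth' : ∀ i j, i ≠ j → ∀ X Y, φ i X * ad (φ j Y) = 0 ∧ ad (φ i X) * φ j Y = 0
  /-- unitary components -/
  star : ∀ i, u i = true → ∀ X, ad (φ i X) = φ i (hc σ X)
  /-- pairs -/
  pair : ∀ i, u i = false → ∀ X Y, φ i X * ad (φ i Y) = 0 ∧ ad (φ i X) * φ i Y = 0
  surj : ∀ T : Module.End K V, (∀ g ∈ N, T * (g : V →ₗ[K] V) = (g : V →ₗ[K] V) * T) →
    ∃ X Y : ∀ i, Matrix (Fin (m i)) (Fin (m i)) K, T = ∑ i, (φ i (X i) + if u i then 0 else ad (φ i (Y i)))

end Cfsg.Agent.H601.C3
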