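import Cfsg.Agent.H601.C3.DecDefs

/-!
# The determinant on a component of the commutant (helper601, S1920 PSU)

`det_of_mul`, `det_phi`.
-/

set_option autoImplicit false

open Module
open scoped Kronecker

namespace Cfsg.Agent.H601.C3

universe u v

/-- `φ : M_m(K) → End V` multiplicative: `det (φ X + (1 - φ 1)) = det X ^ d` -/
theorem det_of_mul {K : Type u} [Field K] {V : Type v} [AddCommGroup V] [Module K V] [FiniteDimensional K V] {m : ℕ}
    (hm : 0 < m) (φ : Matrix (Fin m) (Fin m) K →ₗ[K] Module.End K V) (hφ : ∀ X Y, φ (X * Y) = φ X * φ Y) :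
    ∃ d : ℕ, (Function.Injective φ → 0 < d) ∧ ∀ X, LinearMap.det (φ X + (1 - φ 1)) = X.det ^ d := by
  classical
  let o : Fin m := ⟨0, hm⟩
  obtain ⟨E, hEd⟩ : ∃ E : Fin m → Fin m → Matrix (Fin m) (Fin m) K, E = fun a b => Matrix.single a b 1 := ⟨_, rfl⟩
  have hE : ∀ a b c, E a b * E b c = E a c := fun a b c => by
    simp only [hEd]
    rw [Matrix.single_mul_single_same, one_mul]
  have hE0 : ∀ a b c d, b ≠ c → E a b * E c d = 0 := fun a b c d h => by
    simp only [hEd]
    rw [Matrix.single_mul_single_of_ne _ _ _ _ h]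
  have hsum : ∀ X : Matrix (Fin m) (Fin m) K, X = ∑ a, ∑ b, X a b • E a b := fun X => by
    conv_lhs => rw [Matrix.matrix_eq_sum_single X]
    simp only [hEd]
    refine Finset.sum_congr rfl fun a _ => Finset.sum_congr rfl fun b _ => ?_
    rw [Matrix.smul_single, smul_eq_mul, mul_one]
  let W : Submodule K V := LinearMap.range (φ (E o o))
  have hW : ∀ w ∈ W, φ (E o o) w = w := by
    rintro w ⟨v, rfl⟩
    change (φ (E o o) * φ (E o o)) v = _
    rw [← hφ, hE]
  have hW' : ∀ a v, φ (E o a) v ∈ W := fun a v => ⟨φ (E o a) v, by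
    change (φ (E o o) * φ (E o a)) v = _
    rw [← hφ, hE]⟩
  let d := Module.finrank K W
  let w : Basis (Fin d) K W := Module.finBasis K W
  let A : (Fin m × Fin d → K) →ₗ[K] V := Fintype.linearCombination K (fun p => φ (E p.1 o) (w p.2 : V))
  let B : V →ₗ[K] (Fin m × Fin d → K) :=
    LinearMap.pi fun p => (w.coord p.2).comp ((φ (E o p.1)).codRestrict W (hW' p.1))
  have hA : ∀ y, A y = ∑ p : Fin m × Fin d, y p • φ (E p.1 o) (w p.2 : V) := fun y =>
    Fintype.linearCombination_apply K _ y
  have hB : ∀ v p, B v p = w.coord p.2 ⟨φ (E o p.1) v, hW' p.1 v⟩ := fun v p => rfl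
  have hBA : B ∘ₗ A = LinearMap.id := by
    refine LinearMap.pi_ext' fun p => LinearMap.ext_ring ?_
    funext p'
    rw [LinearMap.comp_apply, LinearMap.comp_apply, LinearMap.single_apply, LinearMap.comp_apply,
      LinearMap.single_apply, LinearMap.id_apply, hB]
    have h1 : A (Pi.single p 1) = φ (E p.1 o) (w p.2 : V) := by
      rw [hA, Finset.sum_eq_single p, Pi.single_eq_same, one_smul]
      · intro q _ hq
        rw [Pi.single_eq_of_ne hq, zero_smul]
      · exact fun h => absurd (Finset.mem_univ p) h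
    have h2 : φ (E o p'.1) (A (Pi.single p 1)) = (φ (E o p'.1 * E p.1 o)) (w p.2 : V) := by
      rw [h1, hφ]
      rfl
    by_cases h3 : p'.1 = p.1
    · have h4 : (⟨φ (E o p'.1) (A (Pi.single p 1)), hW' p'.1 _⟩ : W) = w p.2 := by
        apply Subtype.ext
        change φ (E o p'.1) (A (Pi.single p 1)) = _
        rw [h2, h3, hE, hW _ (w p.2).2]
      rw [h4, Basis.coord_apply, Basis.repr_self]
      by_cases h5 : p' = p
      · rw [h5, Finsupp.single_eq_same, Pi.single_eq_same]
      · rw [Pi.single_eq_of_ne h5, Finsupp.single_eq_of_ne]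
        exact fun h => h5 (Prod.ext h3 h)
    · have h4 : (⟨φ (E o p'.1) (A (Pi.single p 1)), hW' p'.1 _⟩ : W) = 0 := by
        apply Subtype.ext
        change φ (E o p'.1) (A (Pi.single p 1)) = 0
        rw [h2, hE0 _ _ _ _ h3, map_zero, LinearMap.zero_apply]
      rw [h4, map_zero, Pi.single_eq_of_ne (fun h => h3 (congrArg Prod.fst h))]
  have hAB : ∀ X, φ X = A ∘ₗ Matrix.toLin' (X ⊗ₖ (1 : Matrix (Fin d) (Fin d) K)) ∘ₗ B := by
    intro X
    refine LinearMap.ext fun v => ?_
    rw [LinearMap.comp_apply, LinearMap.comp_apply, hA, Fintype.sum_prod_type]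
    have h1 : ∀ a : Fin m, ∑ r : Fin d, B v (a, r) • (w r : V) = φ (E o a) v := by
      intro a
      have h2 := w.sum_repr ⟨φ (E o a) v, hW' a v⟩
      have h3 := congrArg (fun t : W => (t : V)) h2
      simp only [Submodule.coe_sum, Submodule.coe_smul] at h3
      exact h3
    have h4 : ∀ (b : Fin m) (r : Fin d), Matrix.toLin' (X ⊗ₖ (1 : Matrix (Fin d) (Fin d) K)) (B v) (b, r) =
        ∑ a, X b a * B v (a, r) := by
      intro b r
      rw [Matrix.toLin'_apply, Matrix.mulVec, dotProduct, Fintype.sum_prod_type]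
      refine Finset.sum_congr rfl fun a _ => ?_
      rw [Finset.sum_eq_single r]
      · rw [Matrix.kroneckerMap_apply, Matrix.one_apply_eq, mul_one]
      · intro s _ hs
        rw [Matrix.kroneckerMap_apply, Matrix.one_apply_ne (Ne.symm hs), mul_zero, zero_mul]
      · exact fun h => absurd (Finset.mem_univ r) h
    calc φ X v = ∑ b, ∑ a, X b a • φ (E b o) (φ (E o a) v) := by
          conv_lhs => rw [hsum X]
          rw [map_sum, LinearMap.sum_apply]
          refine Finset.sum_congr rfl fun b _ => ?_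
          rw [map_sum, LinearMap.sum_apply]
          refine Finset.sum_congr rfl fun a _ => ?_
          rw [map_smul, LinearMap.smul_apply]
          congr 1
          rw [← hE b o a, hφ]
          rfl
      _ = ∑ b, ∑ r, Matrix.toLin' (X ⊗ₖ (1 : Matrix (Fin d) (Fin d) K)) (B v) (b, r) • φ (E b o) (w r : V) := by
          refine Finset.sum_congr rfl fun b _ => ?_
          have h5 : ∀ a, X b a • φ (E b o) (φ (E o a) v) = ∑ r, (X b a * B v (a, r)) • φ (E b o) (w r : V) := by
            intro a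
            rw [← h1 a, map_sum, Finset.smul_sum]
            refine Finset.sum_congr rfl fun r _ => ?_
            rw [map_smul, smul_smul]
          rw [Finset.sum_congr rfl fun a _ => h5 a, Finset.sum_comm]
          refine Finset.sum_congr rfl fun r _ => ?_
          rw [h4, Finset.sum_smul]
  refine ⟨d, fun hi => ?_, fun X => ?_⟩
  · by_contra hd
    have h1 : Module.finrank K W = 0 := Nat.eq_zero_of_not_pos hd
    have h2 : W = ⊥ := Submodule.finrank_eq_zero.1 h1
    have h3 : φ (E o o) = φ 0 := by rw [LinearMap.range_eq_bot.1 h2, map_zero]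
    have h4 := congrFun (congrFun (hi h3) o) o
    have h5 : E o o o o = 1 := by
      simp only [hEd]
      exact Matrix.single_apply_same _ _ _
    exact one_ne_zero (h5.symm.trans h4)
  · let b := Module.finBasis K V
    let c := Pi.basisFun K (Fin m × Fin d)
    have h1 : φ X + (1 - φ 1) = 1 + φ (X - 1) := by rw [map_sub]; abel
    have h2 : LinearMap.toMatrix b b (φ (X - 1)) =
        LinearMap.toMatrix c b A * (((X - 1) ⊗ₖ (1 : Matrix (Fin d) (Fin d) K)) * LinearMap.toMatrix b c B) := by
      rw [hAB, LinearMap.toMatrix_comp b c b, LinearMap.toMatrix_comp b c c]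
      congr 2
      exact LinearMap.toMatrix'_toLin' _
    have h3 : LinearMap.toMatrix b c B * LinearMap.toMatrix c b A = 1 := by
      rw [← LinearMap.toMatrix_comp c b c, hBA, LinearMap.toMatrix_id]
    rw [h1, ← LinearMap.det_toMatrix b, map_add, LinearMap.toMatrix_one, h2, Matrix.det_one_add_mul_comm,
      Matrix.mul_assoc, h3, Matrix.mul_one]
    have h4 : (1 : Matrix (Fin m × Fin d) (Fin m × Fin d) K) + (X - 1) ⊗ₖ (1 : Matrix (Fin d) (Fin d) K) = X ⊗ₖ 1 := by
      rw [← Matrix.one_kronecker_one, ← Matrix.add_kronecker, add_sub_cancel]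
    rw [h4, Matrix.det_kronecker, Matrix.det_one, one_pow, mul_one, Fintype.card_fin]

/-- the determinant on the components -/
theorem det_phi' {K : Type u} [Field K] {V : Type v} [AddCommGroup V] [Module K V] [FiniteDimensional K V]
    {σ : K ≃+* K} {ad : Module.End K V → Module.End K V} {N : Subgroup (V ≃ₗ[K] V)} {ι : Type} [Fintype ι]
    {m : ι → ℕ} {u : ι → Bool} {φ : ∀ i, Matrix (Fin (m i)) (Fin (m i)) K →ₗ[K] Module.End K V} (D : Dec σ ad N u φ) :
    ∃ d : ι → ℕ, ∀ i, 0 < d i ∧ ∀ X, LinearMap.det (φ i X + (1 - φ i 1)) = X.det ^ d i := by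
  choose d h1 h2 using fun i => det_of_mul (D.pos i) (φ i) (D.mul i)
  exact ⟨d, fun i => ⟨h1 i (D.inj i), h2 i⟩⟩

/-- the determinant on the components -/
theorem det_phi {K : Type u} [Field K] {V : Type v} [AddCommGroup V] [Module K V] [FiniteDimensional K V]
    {σ : K ≃+* K} {ad : Module.End K V → Module.End K V} {N : Subgroup (V ≃ₗ[K] V)} {ι : Type} [Fintype ι]
    {m : ι → ℕ} {u : ι → Bool} {φ : ∀ i, Matrix (Fin (m i)) (Fin (m i)) K →ₗ[K] Module.End K V} (D : Dec σ ad N u φ) :
    ∃ d : ι → ℕ, ∀ i X, LinearMap.det (φ i X + (1 - φ i 1)) = X.det ^ d i := by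
  obtain ⟨d, h⟩ := det_phi' D
  exact ⟨d, fun i => (h i).2⟩

end Cfsg.Agent.H601.C3
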